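import Groth.Agent.ConeRetrLib.ChartRing
import Mathlib.RingTheory.Polynomial.IsIntegral
import Mathlib.RingTheory.GradedAlgebra.Radical

/-!
# The integral closure of a graded domain is spanned by homogeneous fractions
-/

set_option autoImplicit false
set_option linter.style.haveILetI false
set_option linter.unusedSectionVars false
set_option maxHeartbeats 800000

universe u

open Polynomial DirectSum

noncomputable section

namespace GrClosLib

variable {k G : Type u} [CommRing k] [CommRing G] [IsDomain G] [Algebra k G] (𝒢 : ℕ → Submodule k G)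
  [GradedAlgebra 𝒢] (L : Type u) [Field L] [Algebra G L] [IsFractionRing G L]

theorem coeff_degHom (a : G) (m : ℕ) : (ConeRetrLib.degHom 𝒢 a).coeff m = (decompose 𝒢 a m : G) := by
  classical
  refine DirectSum.Decomposition.inductionOn 𝒢 (motive := fun a => (ConeRetrLib.degHom 𝒢 a).coeff m = (decompose 𝒢 a m : G))
    ?_ ?_ ?_ a
  · simp
  · intro i a
    rw [ConeRetrLib.degHom_of_mem a.2, coeff_monomial, decompose_coe]
    by_cases h : i = m
    · subst h
      simp
    · rw [if_neg h, of_eq_of_ne _ _ _ (Ne.symm h)]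
      rfl
  · intro a b ha hb
    rw [map_add, coeff_add, ha, hb, decompose_add]
    rfl

theorem eval_one_degHom (a : G) : (ConeRetrLib.degHom 𝒢 a).eval 1 = a := by
  classical
  refine DirectSum.Decomposition.inductionOn 𝒢 (motive := fun a => (ConeRetrLib.degHom 𝒢 a).eval 1 = a) ?_ ?_ ?_ a
  · simp
  · intro i a
    rw [ConeRetrLib.degHom_of_mem a.2, eval_monomial, one_pow, mul_one]
  · intro a b ha hb
    rw [map_add, eval_add, ha, hb]

/-- A fraction of homogeneous elements of degree `j`. -/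
def IsHomFrac (j : ℕ) (z : L) : Prop :=
  ∃ (e : ℕ) (s r : G), s ≠ 0 ∧ s ∈ 𝒢 e ∧ r ∈ 𝒢 (e + j) ∧ algebraMap G L s * z = algebraMap G L r

theorem isHomFrac_zero (j : ℕ) : IsHomFrac 𝒢 L j (0 : L) :=
  ⟨0, 1, 0, one_ne_zero, SetLike.GradedOne.one_mem, zero_mem _, by simp⟩

theorem IsHomFrac.add {j : ℕ} {z w : L} (hz : IsHomFrac 𝒢 L j z) (hw : IsHomFrac 𝒢 L j w) :
    IsHomFrac 𝒢 L j (z + w) := by
  obtain ⟨e, s, r, hs, hse, hr, h⟩ := hz
  obtain ⟨e', s', r', hs', hse', hr', h'⟩ := hw
  refine ⟨e + e', s * s', r * s' + s * r', mul_ne_zero hs hs', SetLike.GradedMul.mul_mem hse hse',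
    add_mem ?_ ?_, ?_⟩
  · rw [show e + e' + j = e + j + e' by omega]
    exact SetLike.GradedMul.mul_mem hr hse'
  · rw [show e + e' + j = e + (e' + j) by omega]
    exact SetLike.GradedMul.mul_mem hse hr'
  · simp only [map_mul, map_add]
    linear_combination (algebraMap G L s') * h + (algebraMap G L s) * h'

theorem IsHomFrac.neg {j : ℕ} {z : L} (hz : IsHomFrac 𝒢 L j z) : IsHomFrac 𝒢 L j (-z) := by
  obtain ⟨e, s, r, hs, hse, hr, h⟩ := hz
  exact ⟨e, s, -r, hs, hse, neg_mem hr, by rw [map_neg, mul_neg, h]⟩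

theorem IsHomFrac.mul_left {i j : ℕ} {z : L} {b : G} (hb : b ∈ 𝒢 i) (hz : IsHomFrac 𝒢 L j z) :
    IsHomFrac 𝒢 L (i + j) (algebraMap G L b * z) := by
  obtain ⟨e, s, r, hs, hse, hr, h⟩ := hz
  refine ⟨e, s, b * r, hs, hse, ?_, ?_⟩
  · rw [show e + (i + j) = i + (e + j) by omega]
    exact SetLike.GradedMul.mul_mem hb hr
  · rw [map_mul]
    linear_combination (algebraMap G L b) * h

theorem IsHomFrac.of_mul {i j : ℕ} {z : L} {b : G} (hb : b ∈ 𝒢 i) (hb0 : b ≠ 0)
    (hz : IsHomFrac 𝒢 L (i + j) (algebraMap G L b * z)) : IsHomFrac 𝒢 L j z := by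
  obtain ⟨e, s, r, hs, hse, hr, h⟩ := hz
  refine ⟨e + i, s * b, r, mul_ne_zero hs hb0, SetLike.GradedMul.mul_mem hse hb, by rwa [add_assoc], ?_⟩
  rw [map_mul, mul_assoc, h]

variable {L}

/-- A ring map to an integrally closed domain extends to integral fractions. -/
theorem exists_extend_integral {W' : Type u} [CommRing W'] [IsDomain W'] [IsIntegrallyClosed W'] (ρ : G →+* W')
    (hρ : Function.Injective ρ) {y : L} (hy : IsIntegral G y) {a b : G}
    (hby : algebraMap G L b * y = algebraMap G L a) : ∃ Q : W', ρ b * Q = ρ a := by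
  have hι : Function.Injective (algebraMap W' (FractionRing W')) := IsFractionRing.injective _ _
  have hρ' : Function.Injective ((algebraMap W' (FractionRing W')).comp ρ) := hι.comp hρ
  have hu : ∀ s : nonZeroDivisors G, IsUnit (((algebraMap W' (FractionRing W')).comp ρ) s) := fun s =>
    IsUnit.mk0 _ fun h => nonZeroDivisors.ne_zero s.2 (hρ' (h.trans (map_zero _).symm))
  obtain ⟨Φ, hΦ⟩ : ∃ Φ : L →+* FractionRing W', Φ.comp (algebraMap G L) = (algebraMap W' (FractionRing W')).comp ρ :=
    ⟨IsLocalization.lift (S := L) hu, IsLocalization.lift_comp hu⟩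
  have hint : IsIntegral W' (Φ y) := by
    obtain ⟨p, hp, hpy⟩ := hy
    refine ⟨p.map ρ, hp.map ρ, ?_⟩
    have h1 := congrArg Φ hpy
    rw [map_zero, hom_eval₂, hΦ] at h1
    rw [eval₂_map]
    exact h1
  obtain ⟨Q, hQ⟩ := (IsIntegrallyClosed.isIntegral_iff (R := W') (K := FractionRing W')).1 hint
  refine ⟨Q, hι ?_⟩
  have h1 := congrArg Φ hby
  rw [map_mul, ← RingHom.comp_apply, ← RingHom.comp_apply Φ, hΦ, RingHom.comp_apply, RingHom.comp_apply, ← hQ] at h1
  rw [map_mul]
  exact h1

/-- An integral element is a sum of integral homogeneous fractions. -/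
theorem exists_components {y : L} (hy : IsIntegral G y) :
    ∃ q : Polynomial L, q.eval 1 = y ∧ ∀ j, IsIntegral G (q.coeff j) ∧ IsHomFrac 𝒢 L j (q.coeff j) := by
  classical
  let W := integralClosure G L
  haveI : IsFractionRing W L := integralClosure.isFractionRing_of_finite_extension L L
  haveI : IsIntegrallyClosed W := (isIntegrallyClosed_iff_isIntegrallyClosedIn L).2 inferInstance
  let ρ : G →+* Polynomial W := (mapRingHom (algebraMap G W)).comp (ConeRetrLib.degHom 𝒢)
  have hρ : Function.Injective ρ := fun a b h => by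
    have h1 := congrArg (Polynomial.eval (1 : W)) h
    simp only [ρ, RingHom.comp_apply, coe_mapRingHom, eval_one_map, eval_one_degHom] at h1
    exact IsFractionRing.injective G L (congrArg Subtype.val h1)
  obtain ⟨a, b, hb, hab⟩ := IsFractionRing.div_surjective (A := G) y
  have hb0 : b ≠ 0 := nonZeroDivisors.ne_zero hb
  have hbL : algebraMap G L b ≠ 0 := fun h => hb0 (IsFractionRing.injective G L (by rw [h, map_zero]))
  have hby : algebraMap G L b * y = algebraMap G L a := by rw [← hab, mul_div_cancel₀ _ hbL]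
  obtain ⟨Q, hrel⟩ := exists_extend_integral ρ hρ hy hby
  let q : Polynomial L := Q.map (algebraMap W L)
  let B : Polynomial L := (ConeRetrLib.degHom 𝒢 b).map (algebraMap G L)
  have hrelL : B * q = (ConeRetrLib.degHom 𝒢 a).map (algebraMap G L) := by
    have h1 := congrArg (Polynomial.map (algebraMap W L)) hrel
    simp only [ρ, RingHom.comp_apply, coe_mapRingHom, Polynomial.map_mul, Polynomial.map_map] at h1
    exact h1
  refine ⟨q, ?_, fun j => ⟨by rw [coeff_map]; exact (Q.coeff j).2, ?_⟩⟩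
  · have h1 := congrArg (Polynomial.eval (1 : L)) hrelL
    simp only [B, eval_mul, eval_one_map, eval_one_degHom] at h1
    exact mul_left_cancel₀ hbL (h1.trans hby.symm)
  have hBne : B ≠ 0 := fun h => hbL (by
    have h1 := congrArg (Polynomial.eval (1 : L)) h
    simpa only [B, eval_one_map, eval_one_degHom, eval_zero] using h1)
  have hBmem : ∀ e, ∃ c ∈ 𝒢 e, B.coeff e = algebraMap G L c := fun e =>
    ⟨_, (decompose 𝒢 b e).2, by rw [coeff_map, coeff_degHom]⟩
  let t := B.natDegree
  obtain ⟨bt, hbt, hbt'⟩ := hBmem t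
  have hbt0 : bt ≠ 0 := fun h => Polynomial.leadingCoeff_ne_zero.2 hBne (by
    rw [leadingCoeff, hbt', h, map_zero])
  suffices ∀ d j, q.natDegree + 1 ≤ j + d → IsHomFrac 𝒢 L j (q.coeff j) from this (q.natDegree + 1) j (by omega)
  intro d
  induction d with
  | zero =>
    intro j hj
    rw [coeff_eq_zero_of_natDegree_lt (by omega)]
    exact isHomFrac_zero 𝒢 L j
  | succ d ih =>
    intro j hj
    refine IsHomFrac.of_mul 𝒢 L hbt hbt0 ?_
    rw [← hbt']
    have hsum := congrArg (fun f : Polynomial L => f.coeff (t + j)) hrelL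
    simp only [coeff_mul, coeff_map, coeff_degHom] at hsum
    rw [← Finset.add_sum_erase _ _ (show (t, j) ∈ Finset.HasAntidiagonal.antidiagonal (t + j) from Finset.HasAntidiagonal.mem_antidiagonal.2 rfl),
      add_comm] at hsum
    rw [eq_sub_of_add_eq' hsum, sub_eq_add_neg]
    refine IsHomFrac.add 𝒢 L ⟨0, 1, _, one_ne_zero, SetLike.GradedOne.one_mem, by
      rw [zero_add]; exact (decompose 𝒢 a (t + j)).2, by rw [map_one, one_mul]⟩ (IsHomFrac.neg 𝒢 L ?_)
    refine Finset.sum_induction _ (IsHomFrac 𝒢 L (t + j)) (fun _ _ h h' => IsHomFrac.add 𝒢 L h h')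
      (isHomFrac_zero 𝒢 L _) fun x hx => ?_
    obtain ⟨hne, hmem⟩ := Finset.mem_erase.1 hx
    rw [Finset.HasAntidiagonal.mem_antidiagonal] at hmem
    by_cases hx1 : t < x.1
    · rw [coeff_eq_zero_of_natDegree_lt hx1, zero_mul]
      exact isHomFrac_zero 𝒢 L _
    · have hx2 : j + 1 ≤ x.2 := by
        by_contra h
        exact hne (Prod.ext (show x.1 = t by omega) (show x.2 = j by omega))
      obtain ⟨c, hc, hc'⟩ := hBmem x.1
      rw [hc', ← hmem]
      exact IsHomFrac.mul_left 𝒢 L hc (ih x.2 (by omega))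

variable (L)

/-- The conductor into the integral closure is homogeneous. -/
theorem isHomogeneous_annihilator :
    (Module.annihilator G (↥(integralClosure G L) ⧸ LinearMap.range (Algebra.linearMap G ↥(integralClosure G L)))).IsHomogeneous 𝒢 := by
  intro i c hc
  rw [Module.mem_annihilator] at hc ⊢
  intro z
  obtain ⟨⟨y, hy⟩, rfl⟩ := Submodule.mkQ_surjective _ z
  suffices ∃ g, algebraMap G L g = algebraMap G L (decompose 𝒢 c i : G) * y by
    obtain ⟨g, hg⟩ := this
    refine (Submodule.Quotient.mk_eq_zero _).2 ⟨g, Subtype.ext ?_⟩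
    show algebraMap G L g = (decompose 𝒢 c i : G) • y
    rw [Algebra.smul_def, hg]
  obtain ⟨q, hq, hcomp⟩ := exists_components 𝒢 hy
  rw [← hq, eval_eq_sum_range, Finset.mul_sum]
  refine Finset.sum_induction _ (fun z => ∃ g, algebraMap G L g = z)
    (fun _ _ ⟨g, hg⟩ ⟨g', hg'⟩ => ⟨g + g', by rw [map_add, hg, hg']⟩) ⟨0, map_zero _⟩ fun j _ => ?_
  rw [one_pow, mul_one]
  obtain ⟨hint, e, s, r, hs, hse, hr, h⟩ := hcomp j
  obtain ⟨g, hg⟩ := (Submodule.Quotient.mk_eq_zero _).1 (hc (Submodule.Quotient.mk ⟨q.coeff j, hint⟩))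
  have hg' : algebraMap G L g = algebraMap G L c * q.coeff j := by
    have h1 := congrArg Subtype.val hg
    change algebraMap G L g = c • q.coeff j at h1
    rwa [Algebra.smul_def] at h1
  have hsg : s * g = c * r := IsFractionRing.injective G L (by
    rw [map_mul, map_mul, hg']
    linear_combination (algebraMap G L c) * h)
  have h2 := congrArg (fun z => (decompose 𝒢 z (e + (i + j)) : G)) hsg
  simp only [coe_decompose_mul_add_of_left_mem 𝒢 hse] at h2
  rw [show e + (i + j) = i + (e + j) by omega, coe_decompose_mul_add_of_right_mem 𝒢 hr] at h2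
  have hs' : algebraMap G L s ≠ 0 := fun h0 => hs (IsFractionRing.injective G L (by rw [h0, map_zero]))
  refine ⟨(decompose 𝒢 g (i + j) : G), mul_left_cancel₀ hs' ?_⟩
  rw [← map_mul, h2, map_mul]
  linear_combination -(algebraMap G L (decompose 𝒢 c i : G)) * h

end GrClosLib
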