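import Groth.Agent.GrClosLib.Components
import Groth.Agent.ProjTopLib.FG
import Groth.Agent.NormFin.Field
import Groth.Agent.NormalLib.Serre
import Groth.Agent.CommAlgDim.Integral
import Groth.Agent.FibDimLib.Formula
import Groth.Agent.LocCohLib.Finiteness

/-!
# The non-normal locus of a graded domain and the first local cohomology
-/

set_option autoImplicit false
set_option linter.style.haveILetI false
set_option linter.unusedSectionVars false
set_option maxHeartbeats 800000

universe u

open LocCohLib DirectSum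

noncomputable section

namespace GrClosLib

variable {k G : Type u} [Field k] [CommRing G] [IsDomain G] [Algebra k G] [IsNoetherianRing G]
  (𝒢 : ℕ → Submodule k G) [GradedAlgebra 𝒢] (h0 : ∀ x ∈ 𝒢 0, x ∈ Set.range (algebraMap k G))
  (L : Type u) [Field L] [Algebra G L] [IsFractionRing G L]

set_option quotPrecheck false

local notation "Irr" => HomogeneousIdeal.toIdeal (HomogeneousIdeal.irrelevant 𝒢)
local notation "W" => integralClosure G L
local notation "QQ" => (↥(integralClosure G L) ⧸ LinearMap.range (Algebra.linearMap G ↥(integralClosure G L)))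

theorem mem_irr {x : G} : x ∈ Irr ↔ (decompose 𝒢 x 0 : G) = 0 := HomogeneousIdeal.mem_irrelevant_iff 𝒢 x

include h0

theorem finiteType : Algebra.FiniteType k G := by
  haveI : Algebra.FiniteType (𝒢 0) G := ProjTopLib.finiteType_of_fg 𝒢 (IsNoetherian.noetherian _)
  haveI : Algebra.FiniteType k (𝒢 0) := Algebra.FiniteType.of_surjective (Algebra.ofId k (𝒢 0)) fun x => by
    obtain ⟨c, hc⟩ := h0 x.1 x.2
    exact ⟨c, Subtype.ext hc⟩
  haveI : IsScalarTower k (𝒢 0) G := ⟨fun c x y => smul_mul_assoc c (x : G) y⟩
  exact Algebra.FiniteType.trans (S := 𝒢 0) inferInstance inferInstance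

theorem finite_closure : Module.Finite G W := by
  haveI := finiteType 𝒢 h0
  exact NormFinLib.finite_integralClosure_of_finiteType_field k G L L

theorem le_irrelevant_of_isHomogeneous {P : Ideal G} (hP : P.IsHomogeneous 𝒢) (hne : P ≠ ⊤) : P ≤ Irr := by
  intro x hx
  rw [mem_irr]
  by_contra hx0
  obtain ⟨c, hc⟩ := h0 _ (decompose 𝒢 x 0).2
  have hc0 : c ≠ 0 := fun h => hx0 (by rw [← hc, h, map_zero])
  exact hne (P.eq_top_of_isUnit_mem (hP 0 hx) (hc ▸ (IsUnit.mk0 c hc0).map (algebraMap k G)))

theorem isMaximal_irrelevant : (Irr).IsMaximal := by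
  have hne : Irr ≠ ⊤ := fun h => by
    have h1 : (1 : G) ∈ Irr := h ▸ Submodule.mem_top
    rw [mem_irr,
      decompose_of_mem_same 𝒢 SetLike.GradedOne.one_mem] at h1
    exact one_ne_zero h1
  refine Ideal.isMaximal_iff.2 ⟨(Ideal.ne_top_iff_one _).1 hne, fun J x hle hxI hxJ => ?_⟩
  obtain ⟨c, hc⟩ := h0 _ (decompose 𝒢 x 0).2
  have hc0 : c ≠ 0 := fun h => hxI (by
    rw [mem_irr, ← hc, h, map_zero])
  have hrest : x - (decompose 𝒢 x 0 : G) ∈ Irr := by
    rw [mem_irr, decompose_sub]
    show ((decompose 𝒢 x 0 : G) - (decompose 𝒢 (decompose 𝒢 x 0 : G) 0 : G)) = 0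
    rw [decompose_of_mem_same 𝒢 (decompose 𝒢 x 0).2, sub_self]
  have h1 : (decompose 𝒢 x 0 : G) ∈ J := by
    have := J.sub_mem hxJ (hle hrest)
    rwa [sub_sub_cancel] at this
  rw [← hc] at h1
  exact (Ideal.eq_top_iff_one _).1 (J.eq_top_of_isUnit_mem h1 ((IsUnit.mk0 c hc0).map (algebraMap k G)))

/-- If the closure differs by a module of finite length, it differs only at the vertex. -/
theorem irrelevant_le_radical (hfin : IsFiniteLength G QQ) : Irr ≤ (Module.annihilator G QQ).radical := by
  obtain ⟨_, _⟩ := isFiniteLength_iff_isNoetherian_isArtinian.1 hfin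
  haveI : Module.Finite G QQ := inferInstance
  have hmax : ∀ P : Ideal G, P.IsPrime → Module.annihilator G QQ ≤ P → P.IsMaximal := fun P hP hle => by
    haveI : IsArtinian G (G ⧸ Module.annihilator G QQ) := by
      obtain ⟨s, hs⟩ := (Module.Finite.fg_top : (⊤ : Submodule G QQ).FG)
      let φ : G →ₗ[G] (s → QQ) := LinearMap.pi fun v => LinearMap.toSpanSingleton G QQ v.1
      have hker : LinearMap.ker φ = Module.annihilator G QQ := by
        ext r
        rw [LinearMap.mem_ker, Module.mem_annihilator]
        refine ⟨fun h z => ?_, fun h => funext fun v => h v.1⟩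
        have hz : z ∈ Submodule.span G (s : Set QQ) := hs ▸ Submodule.mem_top
        induction hz using Submodule.span_induction with
        | mem w hw => exact congrFun h ⟨w, hw⟩
        | zero => exact smul_zero r
        | add a b _ _ ha hb => rw [smul_add, ha, hb, add_zero]
        | smul c w _ hw => rw [smul_comm, hw, smul_zero]
      rw [← hker]
      exact isArtinian_of_injective (Submodule.liftQ _ φ le_rfl) (LinearMap.ker_eq_bot.1
        (Submodule.ker_liftQ_eq_bot' _ φ rfl))
    haveI : IsArtinian G (G ⧸ P) := isArtinian_of_surjective _ (Submodule.factor hle) (Submodule.factor_surjective hle)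
    haveI : IsArtinianRing (G ⧸ P) := isArtinian_of_tower G inferInstance
    exact Ideal.Quotient.maximal_of_isField P (IsArtinianRing.isField_of_isDomain _)
  rw [Ideal.radical_eq_sInf]
  refine le_sInf fun P ⟨hle, hP⟩ => ?_
  have hle' : Module.annihilator G QQ ≤ (P.homogeneousCore 𝒢).toIdeal := by
    rw [← (isHomogeneous_annihilator 𝒢 L).toIdeal_homogeneousCore_eq_self]
    exact Ideal.homogeneousCore_mono 𝒢 hle
  have hmax' := hmax _ hP.homogeneousCore hle'
  have heq : (P.homogeneousCore 𝒢).toIdeal = Irr :=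
    hmax'.eq_of_le (isMaximal_irrelevant 𝒢 h0).ne_top
      (le_irrelevant_of_isHomogeneous 𝒢 h0 (P.homogeneousCore 𝒢).isHomogeneous hmax'.ne_top)
  exact heq.ge.trans (Ideal.toIdeal_homogeneousCore_le 𝒢 P)

theorem normal_puncturedSpec_iff :
    (∀ (p : Ideal G) [p.IsPrime], ¬ Irr ≤ p → IsIntegrallyClosed (Localization.AtPrime p)) ↔ IsFiniteLength G QQ := by
  haveI := finite_closure 𝒢 h0 L
  constructor
  · intro h
    have hC : ∀ P : Ideal G, P.IsPrime → Module.annihilator G QQ ≤ P → P = Irr := by
      intro P hP hle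
      by_contra hne
      have hnle : ¬ Irr ≤ P := fun hI => hne ((isMaximal_irrelevant 𝒢 h0).eq_of_le hP.ne_top hI).symm
      haveI := h P hnle
      haveI : Module.Finite G QQ := inferInstance
      have hmem : (⟨P, hP⟩ : PrimeSpectrum G) ∈ Module.support G QQ := Module.mem_support_iff_of_finite.2 hle
      rw [Module.mem_support_iff'] at hmem
      obtain ⟨z, hz⟩ := hmem
      obtain ⟨⟨y, hy⟩, rfl⟩ := Submodule.mkQ_surjective _ z
      letI : Algebra (Localization.AtPrime P) L :=
        (IsLocalization.lift (S := Localization.AtPrime P) (M := P.primeCompl) (g := algebraMap G L) fun s =>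
          IsUnit.mk0 _ fun h0' => s.2 (by
            rw [IsFractionRing.injective G L (h0'.trans (map_zero _).symm)]
            exact zero_mem P)).toAlgebra
      haveI : IsScalarTower G (Localization.AtPrime P) L := IsScalarTower.of_algebraMap_eq fun x => by
        rw [RingHom.algebraMap_toAlgebra, IsLocalization.lift_eq]
      haveI : IsFractionRing (Localization.AtPrime P) L :=
        IsFractionRing.isFractionRing_of_isDomain_of_isLocalization P.primeCompl (Localization.AtPrime P) L
      obtain ⟨w, hw⟩ := IsIntegrallyClosed.isIntegral_iff.1 (hy.tower_top (A := Localization.AtPrime P))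
      obtain ⟨g, s, rfl⟩ := IsLocalization.exists_mk'_eq P.primeCompl w
      refine hz s s.2 ((Submodule.Quotient.mk_eq_zero _).2 ⟨g, Subtype.ext ?_⟩)
      show algebraMap G L g = (s : G) • y
      rw [Algebra.smul_def, ← hw, IsScalarTower.algebraMap_apply G (Localization.AtPrime P) L,
        IsScalarTower.algebraMap_apply G (Localization.AtPrime P) L, ← map_mul, IsLocalization.mk'_spec']
    haveI : Ring.KrullDimLE 0 (G ⧸ Module.annihilator G QQ) := by
      refine Ring.krullDimLE_zero_iff.2 fun P hP => ?_
      have hle : Module.annihilator G QQ ≤ P.comap (Ideal.Quotient.mk _) := fun x hx => by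
        rw [Ideal.mem_comap, Ideal.Quotient.eq_zero_iff_mem.2 hx]
        exact zero_mem _
      haveI : (P.comap (Ideal.Quotient.mk (Module.annihilator G QQ))).IsMaximal := by
        rw [hC _ (Ideal.IsPrime.comap _) hle]
        exact isMaximal_irrelevant 𝒢 h0
      rw [← Ideal.map_comap_of_surjective _ Ideal.Quotient.mk_surjective P]
      exact Ideal.IsMaximal.map_of_surjective_of_ker_le Ideal.Quotient.mk_surjective (by rw [Ideal.mk_ker]; exact hle)
    haveI : IsArtinianRing (G ⧸ Module.annihilator G QQ) :=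
      isArtinianRing_iff_isNoetherianRing_krullDimLE_zero.2 ⟨inferInstance, inferInstance⟩
    letI : Module (G ⧸ Module.annihilator G QQ) QQ := (Module.isTorsionBySet_annihilator G QQ).module
    haveI : IsScalarTower G (G ⧸ Module.annihilator G QQ) QQ := (Module.isTorsionBySet_annihilator G QQ).isScalarTower
    haveI : Module.Finite (G ⧸ Module.annihilator G QQ) QQ := Module.Finite.of_restrictScalars_finite G _ _
    haveI : IsArtinian G QQ :=
      isArtinian_of_surjective_algebraMap (R := G ⧸ Module.annihilator G QQ) Ideal.Quotient.mk_surjective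
    exact isFiniteLength_iff_isNoetherian_isArtinian.2 ⟨inferInstance, inferInstance⟩
  · intro hfin p hp hnle
    have hnot : ¬ Module.annihilator G QQ ≤ p := fun hle =>
      hnle ((irrelevant_le_radical 𝒢 h0 L hfin).trans (hp.radical_le_iff.2 hle))
    obtain ⟨c, hc, hcp⟩ := SetLike.not_le_iff_exists.1 hnot
    rw [Module.mem_annihilator] at hc
    letI : Algebra (Localization.AtPrime p) L :=
      (IsLocalization.lift (S := Localization.AtPrime p) (M := p.primeCompl) (g := algebraMap G L) fun s =>
        IsUnit.mk0 _ fun h0' => s.2 (by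
          rw [IsFractionRing.injective G L (h0'.trans (map_zero _).symm)]
          exact zero_mem p)).toAlgebra
    haveI : IsScalarTower G (Localization.AtPrime p) L := IsScalarTower.of_algebraMap_eq fun x => by
      rw [RingHom.algebraMap_toAlgebra, IsLocalization.lift_eq]
    haveI : IsFractionRing (Localization.AtPrime p) L :=
      IsFractionRing.isFractionRing_of_isDomain_of_isLocalization p.primeCompl (Localization.AtPrime p) L
    refine (isIntegrallyClosed_iff L).2 fun {x} hx => ?_
    obtain ⟨⟨t, htp⟩, ht⟩ := hx.exists_multiple_integral_of_isLocalization p.primeCompl x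
    obtain ⟨g, hg⟩ := (Submodule.Quotient.mk_eq_zero _).1 (hc (Submodule.Quotient.mk ⟨_, ht⟩))
    have h1 : algebraMap G L g = algebraMap G L (c * t) * x := by
      have := congrArg Subtype.val hg
      change algebraMap G L g = c • t • x at this
      rw [smul_smul, Algebra.smul_def] at this
      exact this
    refine ⟨IsLocalization.mk' _ g (⟨c, hcp⟩ * ⟨t, htp⟩ : p.primeCompl), ?_⟩
    have h2 : algebraMap G L (c * t) ≠ 0 := fun h0' => (mul_ne_zero (fun hc0 : c = 0 => hcp (hc0 ▸ zero_mem p))
      (fun ht0 : t = 0 => htp (ht0 ▸ zero_mem p))) (IsFractionRing.injective G L (h0'.trans (map_zero _).symm))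
    refine mul_left_cancel₀ h2 ?_
    rw [← h1, IsScalarTower.algebraMap_apply G (Localization.AtPrime p) L (c * t), ← map_mul,
      show c * t = ((⟨c, hcp⟩ * ⟨t, htp⟩ : p.primeCompl) : G) from rfl, IsLocalization.mk'_spec',
      ← IsScalarTower.algebraMap_apply]

theorem not_irrelevant_le (hdim : 2 ≤ ringKrullDim G) {P : Ideal W} [P.IsPrime] (hP : P.height = 1)
    (hle : Irr ≤ P.comap (algebraMap G W)) : False := by
  haveI := finiteType 𝒢 h0
  haveI := finite_closure 𝒢 h0 L
  letI : Algebra k W := ((algebraMap G W).comp (algebraMap k G)).toAlgebra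
  haveI : IsScalarTower k G W := IsScalarTower.of_algebraMap_eq fun _ => rfl
  haveI : Algebra.FiniteType k W := Algebra.FiniteType.trans (S := G) inferInstance inferInstance
  haveI : (P.comap (algebraMap G W)).IsMaximal :=
    (isMaximal_irrelevant 𝒢 h0).eq_of_le (Ideal.IsPrime.comap _).ne_top hle ▸ isMaximal_irrelevant 𝒢 h0
  haveI : P.IsMaximal := Ideal.isMaximal_of_isIntegral_of_isMaximal_comap (R := G) P inferInstance
  letI := Ideal.Quotient.field P
  have h1 := FibDimLib.ringKrullDim_quotient_add_height_affine k W P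
  rw [ringKrullDim_eq_zero_of_field, zero_add, hP,
    CommAlgDim.ringKrullDim_eq_of_integral G W (FaithfulSMul.algebraMap_injective G W)] at h1
  rw [← h1] at hdim
  exact absurd hdim (by decide)

theorem subsingleton_H_closure (hdim : 2 ≤ ringKrullDim G) :
    Subsingleton (LocCoh.H Irr 0 W) ∧ Subsingleton (LocCoh.H Irr 1 W) := by
  haveI := finite_closure 𝒢 h0 L
  haveI : IsFractionRing W L := integralClosure.isFractionRing_of_finite_extension L L
  haveI : IsIntegrallyClosed W := (isIntegrallyClosed_iff_isIntegrallyClosedIn L).2 inferInstance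
  haveI : IsNoetherianRing W := isNoetherian_of_tower G inferInstance
  have hne : Irr ≠ ⊥ := fun h => by
    haveI : (⊥ : Ideal G).IsMaximal := h ▸ isMaximal_irrelevant 𝒢 h0
    have hfield : IsField G := Ring.isField_iff_maximal_bot.2 inferInstance
    rw [ringKrullDim_eq_zero_of_isField hfield] at hdim
    exact absurd hdim (by decide)
  obtain ⟨x, hxI, hx0⟩ := Submodule.exists_mem_ne_zero_of_ne_bot hne
  have hinj : Function.Injective (algebraMap G W) := FaithfulSMul.algebraMap_injective G W
  have hx' : algebraMap G W x ≠ 0 := fun h => hx0 (hinj (h.trans (map_zero _).symm))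
  have h0W : Subsingleton (LocCoh.H Irr 0 W) := by
    rw [subsingleton_H0_iff]
    intro p hp hle
    obtain ⟨hpp, v, hv⟩ := isAssociatedPrime_iff.1 hp
    have hxv := hle hxI
    rw [hv, Submodule.mem_colon_singleton, Submodule.mem_bot, Algebra.smul_def] at hxv
    exact hpp.ne_top ((Ideal.eq_top_iff_one _).2 (by
      rw [hv, Submodule.mem_colon_singleton, (mul_eq_zero.1 hxv).resolve_left hx', smul_zero]; exact zero_mem _))
  refine ⟨h0W, ?_⟩
  let J : Ideal W := Ideal.span {algebraMap G W x}
  let g : W →ₗ[G] W := x • LinearMap.id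
  let π : W →ₗ[G] (W ⧸ J) := (Ideal.Quotient.mkₐ G J).toLinearMap
  have hg : Function.Injective g := fun a b h => mul_left_cancel₀ hx' (by
    rw [← Algebra.smul_def, ← Algebra.smul_def]; exact h)
  have hex : Function.Exact g π := fun z => by
    show Ideal.Quotient.mk J z = 0 ↔ _
    rw [Ideal.Quotient.eq_zero_iff_mem, Ideal.mem_span_singleton']
    exact ⟨fun ⟨w, hw⟩ => ⟨w, by show x • w = z; rw [Algebra.smul_def, mul_comm]; exact hw⟩,
      fun ⟨w, hw⟩ => ⟨w, by rw [mul_comm, ← Algebra.smul_def]; exact hw⟩⟩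
  have hπ : Function.Surjective π := Ideal.Quotient.mk_surjective
  have hq : Subsingleton (LocCoh.H Irr 0 (W ⧸ J)) := by
    rw [subsingleton_H0_iff]
    intro p hp hle
    obtain ⟨hpp, v, hv⟩ := isAssociatedPrime_iff.1 hp
    have hv0 : v ≠ 0 := fun h => hpp.ne_top ((Ideal.eq_top_iff_one _).2 (by
      rw [hv, Submodule.mem_colon_singleton, h, smul_zero]; exact zero_mem _))
    obtain ⟨P, hP, hPv⟩ := exists_le_isAssociatedPrime_of_isNoetherianRing W v hv0
    haveI := hP.isPrime
    refine not_irrelevant_le 𝒢 h0 L hdim (NormalLib.height_eq_one_of_mem_associatedPrimes hx' hP) fun r hr => hPv ?_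
    have h1 := hle hr
    rw [hv, Submodule.mem_colon_singleton, Submodule.mem_bot] at h1
    rw [Submodule.mem_colon_singleton, Submodule.mem_bot, algebraMap_smul]
    exact h1
  refine subsingleton_of_forall_eq 0 fun y => ?_
  obtain ⟨m, hm⟩ := isPowerTorsion_H (R := G) Irr 1 W y
  have hinj1 : ∀ z : LocCoh.H Irr 1 W, x • z = 0 → z = 0 := fun z hz => by
    obtain ⟨w, hw⟩ := ((exact_Hδ (I := Irr) hg hex hπ 0).1 z).1 (by rw [Hf_smul_id]; exact hz)
    rw [← hw, Subsingleton.elim w 0, map_zero]
  have key : ∀ m : ℕ, ∀ z : LocCoh.H Irr 1 W, x ^ m • z = 0 → z = 0 := by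
    intro m
    induction m with
    | zero => intro z hz; rwa [pow_zero, one_smul] at hz
    | succ m ih => intro z hz; exact hinj1 z (ih _ (by rw [smul_smul, ← pow_succ]; exact hz))
  exact key m y (hm _ (Ideal.pow_mem_pow hxI m))

theorem nonempty_equiv_H_one (hdim : 2 ≤ ringKrullDim G) (hfin : IsFiniteLength G QQ) :
    Nonempty (QQ ≃ₗ[G] LocCoh.H Irr 1 G) := by
  obtain ⟨hW0, hW1⟩ := subsingleton_H_closure 𝒢 h0 L hdim
  have hinj : Function.Injective (Algebra.linearMap G W) := FaithfulSMul.algebraMap_injective G W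
  have hex := LinearMap.exact_map_mkQ_range (Algebra.linearMap G W)
  have hsur := Submodule.mkQ_surjective (LinearMap.range (Algebra.linearMap G W))
  let δ := Hδ (I := Irr) hinj hex hsur 0
  have hδ : Function.Bijective δ := by
    refine ⟨(injective_iff_map_eq_zero δ).2 fun z hz => ?_, fun z => ?_⟩
    · obtain ⟨w, hw⟩ := ((exact_Hδ (I := Irr) hinj hex hsur 0).2 z).1 hz
      rw [← hw, Subsingleton.elim w 0, map_zero]
    · exact ((exact_Hδ (I := Irr) hinj hex hsur 0).1 z).1 (Subsingleton.elim _ _)
  have htop : DRing.torsionSub Irr QQ = ⊤ := by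
    obtain ⟨m, hm⟩ := Ideal.exists_pow_le_of_le_radical_of_fg (irrelevant_le_radical 𝒢 h0 L hfin)
      (IsNoetherian.noetherian _)
    exact eq_top_iff.2 fun z _ => ⟨m, fun a ha => Module.mem_annihilator.1 (hm ha) z⟩
  exact ⟨((H0Equiv Irr QQ).trans (LinearEquiv.ofTop _ htop)).symm.trans (LinearEquiv.ofBijective δ hδ)⟩

end GrClosLib
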